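import Groth.Agent.Lib.CechFlasque16.Main

/-! Čech cohomology of a finite family vanishes from the number of members on. -/

set_option autoImplicit false

universe u

open CategoryTheory TopologicalSpace Opposite Groth.Agent.CohFound Groth.Agent.CechFlasque16

namespace Groth.Agent.CechCard16

section Combinatorics

variable {ι : Type u} [DecidableEq ι] {A : Type u} [AddCommGroup A]

/-- The image of a tuple. -/
def im {n : ℕ} (a : Fin (n + 1) → ι) : Finset ι := Finset.univ.image a

theorem mem_im {n : ℕ} {a : Fin (n + 1) → ι} {x : ι} : x ∈ im a ↔ ∃ k, a k = x := by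
  simp [im]

theorem im_face {n : ℕ} (a : Fin (n + 2) → ι) (i : Fin (n + 2)) : im (a ∘ i.succAbove) ⊆ im a := by
  intro x hx
  obtain ⟨k, hk⟩ := mem_im.1 hx
  exact mem_im.2 ⟨_, hk⟩

/-- The differential with constant coefficients. -/
def dA {n : ℕ} (g : (Fin (n + 1) → ι) → A) (a : Fin (n + 2) → ι) : A :=
  ∑ i : Fin (n + 2), (-1 : ℤ) ^ (i : ℕ) • g (a ∘ i.succAbove)

theorem dA_congr {n : ℕ} {g g' : (Fin (n + 1) → ι) → A} {a : Fin (n + 2) → ι}
    (h : ∀ i : Fin (n + 2), g (a ∘ i.succAbove) = g' (a ∘ i.succAbove)) : dA g a = dA g' a :=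
  Finset.sum_congr rfl fun i _ => by rw [h i]

theorem dA_sub {n : ℕ} (g g' : (Fin (n + 1) → ι) → A) (a : Fin (n + 2) → ι) :
    dA (fun b => g b - g' b) a = dA g a - dA g' a := by
  simp only [dA, smul_sub, Finset.sum_sub_distrib]

theorem dA_dA {n : ℕ} (g : (Fin (n + 1) → ι) → A) (a : Fin (n + 3) → ι) : dA (dA g) a = 0 := by
  let X : TopCat.{u} := TopCat.of PUnit.{u + 1}
  exact dd_dd (X := X) ((CategoryTheory.Functor.const _).obj (AddCommGrpCat.of A)) (fun _ : ι => ⊤) g a

/-- A cochain supported on tuples containing the given elements. -/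
def Supp (T : Finset ι) {n : ℕ} (g : (Fin (n + 1) → ι) → A) : Prop := ∀ a, ¬ T ⊆ im a → g a = 0

theorem Supp.dA {T : Finset ι} {n : ℕ} {g : (Fin (n + 1) → ι) → A} (h : Supp T g) : Supp T (CechCard16.dA g) :=
  fun a ha => Finset.sum_eq_zero fun i _ => by
    rw [h _ fun hT => ha (hT.trans (im_face a i)), smul_zero]

theorem exists_primitive (T : Finset ι) : ∀ (S : Finset ι), S.Nonempty → T ⊆ S → ∀ (n : ℕ), T.card ≤ n + 1 →
    ∀ f : (Fin (n + 2) → ι) → A, Supp T f → (∀ a, im a ⊆ S → dA f a = 0) →
      ∃ g : (Fin (n + 1) → ι) → A, Supp T g ∧ ∀ a, im a ⊆ S → dA g a = f a := by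
  induction T using Finset.induction_on with
  | empty =>
    intro S ⟨s₀, hs₀⟩ _ n _ f _ hf
    refine ⟨fun b => f (Fin.cons s₀ b), fun a ha => absurd (Finset.empty_subset _) ha, fun a ha => ?_⟩
    have h := hf (Fin.cons s₀ a) (by
      intro x hx
      obtain ⟨k, rfl⟩ := mem_im.1 hx
      cases k using Fin.cases with
      | zero => simpa using hs₀
      | succ k => simpa using ha (mem_im.2 ⟨k, rfl⟩))
    rw [dA, Fin.sum_univ_succ] at h
    simp only [Fin.val_zero, pow_zero, one_smul, Fin.val_succ, pow_succ, mul_neg_one, neg_smul,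
      cons_comp_succAbove, Finset.sum_neg_distrib] at h
    have h0 : (Fin.cons s₀ a : Fin (n + 3) → ι) ∘ (0 : Fin (n + 3)).succAbove = a := by funext k; simp
    rw [h0, ← sub_eq_add_neg, sub_eq_zero] at h
    exact h.symm
  | @insert x T hx ih =>
    intro S hS hTS n hn f hfs hf
    rw [Finset.card_insert_of_notMem hx] at hn
    have hTS' : T ⊆ S := (Finset.subset_insert x T).trans hTS
    have hxS : x ∈ S := hTS (Finset.mem_insert_self x T)
    obtain ⟨b, hb, hdb⟩ := ih S hS hTS' n (by omega) f
      (fun a ha => hfs a fun h => ha ((Finset.subset_insert x T).trans h)) hf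
    have hb0 : ∀ a, im a ⊆ S.erase x → dA b a = 0 := fun a ha => by
      rw [hdb a (ha.trans (Finset.erase_subset x S))]
      exact hfs a fun h => (Finset.mem_erase.1 (ha (h (Finset.mem_insert_self x T)))).1 rfl
    -- a correction with the same differential
    obtain ⟨k, hk, hkd, hks⟩ : ∃ k : (Fin (n + 1) → ι) → A,
        (∀ a, im a ⊆ S.erase x → k a = b a) ∧ (∀ a, dA k a = 0) ∧ Supp T k := by
      by_cases hE : (S.erase x).Nonempty
      · rcases n with _ | n
        · have hT : T = ∅ := Finset.card_eq_zero.1 (by omega)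
          obtain ⟨y, hy⟩ := hE
          refine ⟨fun _ => b fun _ => y, fun a ha => ?_, fun a => ?_, fun a ha => ?_⟩
          · have h1 := hb0 ![y, a 0] (by
              intro z hz
              obtain ⟨j, rfl⟩ := mem_im.1 hz
              fin_cases j
              · exact hy
              · exact ha (mem_im.2 ⟨0, rfl⟩))
            have e0 : (![y, a 0] : Fin 2 → ι) ∘ (0 : Fin 2).succAbove = a := by
              funext j; fin_cases j; rfl
            have e1 : (![y, a 0] : Fin 2 → ι) ∘ (1 : Fin 2).succAbove = fun _ => y := by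
              funext j; fin_cases j; rfl
            rw [dA, Fin.sum_univ_two, e0, e1] at h1
            simp only [Fin.val_zero, pow_zero, one_smul, Fin.val_one, pow_one, neg_smul] at h1
            exact (add_neg_eq_zero.1 h1).symm
          · simp [dA, Fin.sum_univ_two]
          · exact absurd (hT ▸ Finset.empty_subset _) ha
        · obtain ⟨e, he, hde⟩ := ih (S.erase x) hE (fun t ht => Finset.mem_erase.2 ⟨fun h => hx (h ▸ ht), hTS' ht⟩)
            n (by omega) b hb hb0
          exact ⟨dA e, fun a ha => hde a ha, fun a => dA_dA e a, he.dA⟩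
      · refine ⟨fun _ => 0, fun a ha => ?_, fun a => by simp [dA], fun a _ => rfl⟩
        exact absurd ⟨a 0, ha (mem_im.2 ⟨0, rfl⟩)⟩ hE
    refine ⟨fun a => if x ∈ im a then b a - k a else 0, fun a ha => ?_, fun a ha => ?_⟩
    · simp only []
      by_cases hxa : x ∈ im a
      · have hT : ¬ T ⊆ im a := fun h => ha (Finset.insert_subset hxa h)
        rw [if_pos hxa, hb a hT, hks a hT, sub_zero]
      · rw [if_neg hxa]
    · refine Eq.trans ?_ ((hdb a ha).symm.trans rfl).symm
      refine Eq.trans (dA_congr (g' := fun c => b c - k c) fun i => ?_) (by rw [dA_sub, hkd, sub_zero])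
      by_cases hxa : x ∈ im (a ∘ i.succAbove)
      · rw [if_pos hxa]
      · rw [if_neg hxa, hk _ fun y hy => Finset.mem_erase.2 ⟨fun h => hxa (h ▸ hy), ha (im_face a i hy)⟩, sub_self]

end Combinatorics

variable {X : TopCat.{u}} (P : (Opens X)ᵒᵖ ⥤ AddCommGrpCat.{u}) {ι : Type u} [DecidableEq ι] (U : ι → Opens X)

theorem tupOpen_le_inf {n : ℕ} (a : Fin (n + 1) → ι) : tupOpen U a ≤ (im a).inf U :=
  Finset.le_inf fun x hx => by
    obtain ⟨k, rfl⟩ := mem_im.1 hx
    exact iInf_le _ k

theorem inf_le_tupOpen {n : ℕ} {a : Fin (n + 1) → ι} {S : Finset ι} (h : im a ⊆ S) : S.inf U ≤ tupOpen U a :=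
  le_iInf fun k => Finset.inf_le (h (mem_im.2 ⟨k, rfl⟩))

variable [Fintype ι]

theorem exists_dd_eq (n : ℕ) (hn : Fintype.card ι ≤ n + 1) (f : Cochain P U (n + 1))
    (hf : ∀ a, dd P U f a = 0) : ∃ g : Cochain P U n, ∀ a, dd P U g a = f a := by
  suffices H : ∀ (r k : ℕ), r + k = Fintype.card ι + 1 → ∀ f : Cochain P U (n + 1), (∀ a, dd P U f a = 0) →
      (∀ a, (im a).card < k → f a = 0) → ∃ g : Cochain P U n, ∀ a, dd P U g a = f a from
    H (Fintype.card ι + 1) 0 (by omega) f hf fun a ha => absurd ha (Nat.not_lt_zero _)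
  intro r
  induction r with
  | zero =>
    intro k hk f _ h0
    refine ⟨fun _ => 0, fun a => ?_⟩
    rw [h0 a (by have := (im a).card_le_univ; omega)]
    simp [dd]
  | succ r ih =>
    intro k hk f hf h0
    classical
    -- the part of exact image `S`
    have hS : ∀ S : Finset ι, S.card = k → S.Nonempty → ∃ g : (Fin (n + 1) → ι) → P.obj (op (S.inf U)),
        Supp S g ∧ ∀ a (h : im a = S), dA g a = res P (inf_le_tupOpen U h.subset) (f a) := by
      intro S hS hne
      let fS : (Fin (n + 2) → ι) → P.obj (op (S.inf U)) := fun a =>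
        if h : im a = S then res P (inf_le_tupOpen U h.subset) (f a) else 0
      obtain ⟨g, hg, hdg⟩ := exists_primitive S S hne le_rfl n
        (by have := S.card_le_univ; omega) fS (by
          intro a ha
          simp only [fS]
          rw [dif_neg fun h => ha h.symm.subset]) (by
          intro a ha
          by_cases h : im a = S
          · refine Eq.trans ?_ ((congrArg (res P (inf_le_tupOpen U h.subset)) (hf a)).trans (map_zero _))
            rw [dA, dd, map_sum]
            refine Finset.sum_congr rfl fun i _ => ?_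
            rw [map_zsmul, res_res]
            refine congrArg _ ?_
            simp only [fS]
            by_cases h' : im (a ∘ i.succAbove) = S
            · rw [dif_pos h']
            · rw [dif_neg h', h0 (a ∘ i.succAbove) (hS ▸ Finset.card_lt_card
                (Finset.ssubset_iff_subset_ne.2 ⟨(im_face a i).trans h.subset, h'⟩)), map_zero]
          · refine Finset.sum_eq_zero fun i _ => ?_
            simp only [fS]
            rw [dif_neg fun h' => h (ha.antisymm (h'.symm.subset.trans (im_face a i))), smul_zero])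
      refine ⟨g, hg, fun a h => (hdg a h.subset).trans ?_⟩
      simp only [fS]
      rw [dif_pos h]
    choose g hg hdg using hS
    let b : Cochain P U n := fun a =>
      if h : (im a).card = k then
        res P (tupOpen_le_inf U a) (g (im a) h ⟨a 0, mem_im.2 ⟨0, rfl⟩⟩ a)
      else 0
    have key : ∀ a, (im a).card ≤ k → dd P U b a = f a := by
      intro a ha
      rcases ha.lt_or_eq with h | h
      · rw [h0 a h]
        refine Finset.sum_eq_zero fun i _ => ?_
        simp only [b]
        rw [dif_neg (by have := Finset.card_le_card (im_face a i); omega), map_zero, smul_zero]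
      · have hne : (im a).Nonempty := ⟨a 0, mem_im.2 ⟨0, rfl⟩⟩
        have e := congrArg (res P (tupOpen_le_inf U a)) (hdg (im a) h hne a rfl)
        rw [res_res, res_rfl] at e
        refine Eq.trans ?_ e
        rw [dA, map_sum]
        refine Finset.sum_congr rfl fun i _ => ?_
        rw [map_zsmul]
        refine congrArg _ ?_
        simp only [b]
        by_cases h' : (im (a ∘ i.succAbove)).card = k
        · have e' : im (a ∘ i.succAbove) = im a := Finset.eq_of_subset_of_card_le (im_face a i) (by omega)
          rw [dif_pos h', res_res]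
          have : ∀ (S : Finset ι) (hc : S.card = k) (hne : S.Nonempty) (hle : tupOpen U a ≤ S.inf U), S = im a →
              res P hle (g S hc hne (a ∘ i.succAbove)) =
                res P (tupOpen_le_inf U a) (g (im a) h ⟨a 0, mem_im.2 ⟨0, rfl⟩⟩ (a ∘ i.succAbove)) := by
            rintro S hc hne hle rfl
            rfl
          exact this _ h' _ _ e'
        · rw [dif_neg h', map_zero, hg _ _ _ _ fun hsub => h' ((congrArg Finset.card
            ((im_face a i).antisymm hsub)).trans h), map_zero]
    obtain ⟨g', hg'⟩ := ih (k + 1) (by omega) (fun a => f a - dd P U b a) (fun a => by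
      have h1 : dd P U (fun a => f a - dd P U b a) a = dd P U f a - dd P U (dd P U b) a := by
        simp only [dd, map_sub, smul_sub, Finset.sum_sub_distrib]
      rw [h1, hf, dd_dd, sub_zero]) (fun a ha => by rw [key a (by omega), sub_self])
    refine ⟨fun a => g' a + b a, fun a => ?_⟩
    have h1 : dd P U (fun a => g' a + b a) a = dd P U g' a + dd P U b a := by
      simp only [dd, map_add, smul_add, Finset.sum_add_distrib]
    rw [h1, hg', sub_add_cancel]

theorem isZero_cechH (q : ℕ) (hq : Fintype.card ι ≤ q) : Limits.IsZero (CohTop.cechH P U q) := by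
  rcases q with _ | n
  · haveI : IsEmpty ι := Fintype.card_eq_zero_iff.1 (Nat.le_zero.1 hq)
    haveI : Subsingleton ((cechCx U P).X 0) := ⟨fun x y => cval_ext U P fun a => isEmptyElim (a 0)⟩
    have h0 : Limits.IsZero ((cechCx U P).X 0) := AddCommGrpCat.isZero_of_subsingleton _
    exact (HomologicalComplex.exactAt_iff_isZero_homology _ _).1
      (ShortComplex.exact_of_isZero_X₂ _ h0)
  · exact isZero_cechH_of_exact U P fun f hf => exists_dd_eq P U n hq f hf

end Groth.Agent.CechCard16
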